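import Mathlib
import Groth.Agent.PureDesc.Extend
import Groth.Agent.SchDescent.Effective
import Groth.Agent.FpqcDescent.Basic

/-!
# fpqc descent of extensions of finite étale covers across a deep complement
-/

set_option autoImplicit false
set_option linter.style.haveILetI false
set_option backward.isDefEq.respectTransparency.types false

noncomputable section

open AlgebraicGeometry CategoryTheory CategoryTheory.Limits Desc

namespace Groth.Agent.PureDesc

universe u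

/-- an extension `Z` over `Y₁` of the pullback of `E → W` -/
structure Ext1 {Y Y₁ W : Scheme.{u}} (p : Y₁ ⟶ Y) (j : W ⟶ Y) where
  /-- the extension -/
  Z : Scheme.{u}
  /-- its restriction to the preimage of `W` -/
  ZW : Scheme.{u}
  /-- the cover of `W` -/
  El : Scheme.{u}
  /-- structure map -/
  k : Z ⟶ Y₁
  /-- structure map -/
  eE : El ⟶ W
  /-- inclusion -/
  i : ZW ⟶ Z
  /-- map to `W` -/
  r : ZW ⟶ W
  /-- map to the cover -/
  ε : ZW ⟶ El
  sqZ : IsPullback i r (k ≫ p) j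
  sqE : IsPullback ε (i ≫ k) (eE ≫ j) p
  hε : ε ≫ eE = r

namespace Ext1

variable {Y Y₁ W : Scheme.{u}} {p : Y₁ ⟶ Y} [Flat p] {j : W ⟶ Y} [IsOpenImmersion j] [QuasiCompact j]
  (hj : Deep j) (D : Ext1 p j) [IsFinite D.k] [Flat D.k]

theorem mono_i : Mono D.i :=
  haveI : IsOpenImmersion D.i := MorphismProperty.of_isPullback (P := @IsOpenImmersion) D.sqZ.flip ‹_›
  inferInstance

include hj in
/-- two points over the same point of `Y₁` with the same image in `El` on `T_W` are equal -/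
theorem uniq {T : Scheme.{u}} (g : T ⟶ Y) [Flat g] (v v' : T ⟶ D.Z) (hk : v ≫ D.k = v' ≫ D.k)
    (hg : v ≫ D.k ≫ p = g)
    (h : ∀ w w' : pullback g j ⟶ D.ZW, w ≫ D.i = pullback.fst g j ≫ v →
      w' ≫ D.i = pullback.fst g j ≫ v' → w ≫ D.ε = w' ≫ D.ε) : v = v' := by
  refine extend_unique (pullback.fst g j) (Deep.of_isPullback (IsPullback.of_hasPullback g j) hj) D.k v v' hk ?_
  have hv : (pullback.fst g j ≫ v) ≫ D.k ≫ p = pullback.snd g j ≫ j := by
    rw [Category.assoc, hg, pullback.condition]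
  have hv' : (pullback.fst g j ≫ v') ≫ D.k ≫ p = pullback.snd g j ≫ j := by
    rw [Category.assoc, ← reassoc_of% hk, hg, pullback.condition]
  have e := D.sqZ.lift_fst _ _ hv
  have e' := D.sqZ.lift_fst _ _ hv'
  rw [← e, ← e']
  refine congrArg (· ≫ D.i) (D.sqE.hom_ext (h _ _ e e') ?_)
  rw [reassoc_of% e, reassoc_of% e', hk]

/-- pairs (point of `Z`, point of `Y₁`) with the same image in `Y` -/
abbrev A : Scheme.{u} := pullback (D.k ≫ p) p

include hj in
theorem exists_b : ∃ b : D.A ⟶ D.Z, b ≫ D.k = pullback.snd (D.k ≫ p) p ∧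
    ∀ {T : Scheme.{u}} (c : T ⟶ D.A) (w w' : T ⟶ D.ZW),
      w ≫ D.i = c ≫ pullback.fst (D.k ≫ p) p → w' ≫ D.i = c ≫ b → w ≫ D.ε = w' ≫ D.ε := by
  let a := pullback.fst (D.k ≫ p) p
  let g := a ≫ D.k ≫ p
  let iA := pullback.fst g j
  have ha : (iA ≫ a) ≫ D.k ≫ p = pullback.snd g j ≫ j := by
    rw [Category.assoc]; exact pullback.condition
  let wa := D.sqZ.lift _ _ ha
  have hwa : wa ≫ D.i = iA ≫ a := D.sqZ.lift_fst _ _ ha
  have hρ : (wa ≫ D.ε) ≫ D.eE ≫ j = (iA ≫ pullback.snd (D.k ≫ p) p) ≫ p := by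
    rw [Category.assoc, reassoc_of% D.hε, ← D.sqZ.w, reassoc_of% hwa, Category.assoc,
      ← pullback.condition]
  let ρ := D.sqE.lift _ _ hρ
  have hρ₁ : ρ ≫ D.ε = wa ≫ D.ε := D.sqE.lift_fst _ _ hρ
  have hρ₂ : ρ ≫ D.i ≫ D.k = iA ≫ pullback.snd (D.k ≫ p) p := D.sqE.lift_snd _ _ hρ
  obtain ⟨b, ⟨hb, hb'⟩, -⟩ := existsUnique_extend iA
    (Deep.of_isPullback (IsPullback.of_hasPullback g j) hj) D.k (pullback.snd (D.k ≫ p) p)
    (ρ ≫ D.i) ((Category.assoc _ _ _).trans hρ₂)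
  refine ⟨b, hb, fun {T} c w w' hw hw' => ?_⟩
  have hl : c ≫ g = (w ≫ D.r) ≫ j := by
    rw [← reassoc_of% hw, Category.assoc, ← D.sqZ.w]
  let l : T ⟶ pullback g j := pullback.lift c (w ≫ D.r) hl
  have hla : l ≫ wa = w := D.sqZ.hom_ext
    (by rw [Category.assoc, hwa, pullback.lift_fst_assoc, hw])
    (by rw [Category.assoc, D.sqZ.lift_snd, pullback.lift_snd])
  haveI := D.mono_i
  have hlb : l ≫ ρ = w' := by
    rw [← cancel_mono D.i, Category.assoc, ← hb', pullback.lift_fst_assoc, hw']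
  rw [← hla, ← hlb, Category.assoc, Category.assoc, hρ₁]

/-- the transport map -/
def b : D.A ⟶ D.Z := (D.exists_b hj).choose

theorem b_k : D.b hj ≫ D.k = pullback.snd (D.k ≫ p) p := (D.exists_b hj).choose_spec.1

/-- transport of a point to another point of `Y₁` -/
def move {T : Scheme.{u}} (v : T ⟶ D.Z) (x₁ : T ⟶ Y₁) (h : v ≫ D.k ≫ p = x₁ ≫ p) : T ⟶ D.Z :=
  pullback.lift v x₁ h ≫ D.b hj

theorem move_k {T : Scheme.{u}} (v : T ⟶ D.Z) (x₁ : T ⟶ Y₁) (h : v ≫ D.k ≫ p = x₁ ≫ p) :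
    D.move hj v x₁ h ≫ D.k = x₁ := by
  rw [move, Category.assoc, b_k, pullback.lift_snd]

theorem comp_move {T T' : Scheme.{u}} (g : T' ⟶ T) (v : T ⟶ D.Z) (x₁ : T ⟶ Y₁)
    (h : v ≫ D.k ≫ p = x₁ ≫ p) :
    g ≫ D.move hj v x₁ h = D.move hj (g ≫ v) (g ≫ x₁) (by rw [Category.assoc, h, Category.assoc]) := by
  rw [move, move, ← Category.assoc]
  congr 1
  apply pullback.hom_ext
  · rw [Category.assoc, pullback.lift_fst, pullback.lift_fst]
  · rw [Category.assoc, pullback.lift_snd, pullback.lift_snd]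

theorem move_congr {T : Scheme.{u}} {v v' : T ⟶ D.Z} {x₁ x₁' : T ⟶ Y₁} (hv : v = v') (hx : x₁ = x₁')
    (h : v ≫ D.k ≫ p = x₁ ≫ p) :
    D.move hj v x₁ h = D.move hj v' x₁' (hv ▸ hx ▸ h) := by
  subst hv hx; rfl

theorem compat {T T' : Scheme.{u}} (m : T' ⟶ T) (v : T ⟶ D.Z) (x₁ : T ⟶ Y₁)
    (h : v ≫ D.k ≫ p = x₁ ≫ p) (w w' : T' ⟶ D.ZW) (hw : w ≫ D.i = m ≫ v)
    (hw' : w' ≫ D.i = m ≫ D.move hj v x₁ h) : w ≫ D.ε = w' ≫ D.ε :=
  (D.exists_b hj).choose_spec.2 (m ≫ pullback.lift v x₁ h) w w'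
    (by rw [hw, Category.assoc, pullback.lift_fst])
    (by rw [hw', Category.assoc]; rfl)

theorem move_self {T : Scheme.{u}} (v : T ⟶ D.Z) (h : v ≫ D.k ≫ p = (v ≫ D.k) ≫ p) :
    D.move hj v (v ≫ D.k) h = v := by
  have h₀ : 𝟙 D.Z ≫ D.k ≫ p = D.k ≫ p := Category.id_comp _
  have e : D.move hj (𝟙 D.Z) D.k h₀ = 𝟙 D.Z := by
    refine D.uniq hj (D.k ≫ p) _ _ (by rw [move_k, Category.id_comp])
      (by rw [← Category.assoc, move_k]) fun w w' hw hw' => ?_
    exact (D.compat hj (pullback.fst (D.k ≫ p) j) (𝟙 _) D.k h₀ w' w hw' hw).symm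
  have := congr(v ≫ $e)
  rw [comp_move] at this
  exact ((D.move_congr hj (Category.comp_id v).symm rfl h).trans this).trans (Category.comp_id v)

theorem move_move {T : Scheme.{u}} (v : T ⟶ D.Z) (x₁ x₂ : T ⟶ Y₁) (h₁ : v ≫ D.k ≫ p = x₁ ≫ p)
    (h₂ : D.move hj v x₁ h₁ ≫ D.k ≫ p = x₂ ≫ p) (h₃ : v ≫ D.k ≫ p = x₂ ≫ p) :
    D.move hj (D.move hj v x₁ h₁) x₂ h₂ = D.move hj v x₂ h₃ := by
  let s := pullback.snd (D.k ≫ p) p
  let a := pullback.fst (D.k ≫ p) p
  let fA := pullback.fst (s ≫ p) p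
  let X₁ := fA ≫ s
  let X₂ := pullback.snd (s ≫ p) p
  let V := fA ≫ a
  have H₁ : V ≫ D.k ≫ p = X₁ ≫ p := by
    simp only [V, X₁, a, s, Category.assoc, pullback.condition]
  have H₂ : D.move hj V X₁ H₁ ≫ D.k ≫ p = X₂ ≫ p := by
    rw [← Category.assoc, move_k]
    simp only [X₁, X₂, fA, Category.assoc, pullback.condition]
  have H₃ : V ≫ D.k ≫ p = X₂ ≫ p := by
    rw [H₁]; simp only [X₁, X₂, fA, Category.assoc, pullback.condition]
  have e : D.move hj (D.move hj V X₁ H₁) X₂ H₂ = D.move hj V X₂ H₃ := by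
    haveI : Flat (X₂ ≫ p) := by
      rw [show X₂ ≫ p = fA ≫ (a ≫ D.k ≫ p) by
        rw [← H₃]; exact Category.assoc _ _ _]
      infer_instance
    refine D.uniq hj (X₂ ≫ p) _ _ (by rw [move_k, move_k]) (by rw [← Category.assoc, move_k])
      fun w w' hw hw' => ?_
    let m := pullback.fst (X₂ ≫ p) j
    have hv : (m ≫ V) ≫ D.k ≫ p = pullback.snd (X₂ ≫ p) j ≫ j := by
      rw [Category.assoc, H₃, pullback.condition]
    have hv' : (m ≫ D.move hj V X₁ H₁) ≫ D.k ≫ p = pullback.snd (X₂ ≫ p) j ≫ j := by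
      rw [Category.assoc, H₂, pullback.condition]
    have e₀ := D.sqZ.lift_fst _ _ hv
    have e₁ := D.sqZ.lift_fst _ _ hv'
    exact ((D.compat hj m _ X₂ H₂ _ w e₁ hw).symm.trans
      (D.compat hj m V X₁ H₁ _ _ e₀ e₁).symm).trans (D.compat hj m V X₂ H₃ _ w' e₀ hw')
  let c₁ := pullback.lift v x₁ h₁
  have hc : c₁ ≫ s ≫ p = x₂ ≫ p := by
    rw [pullback.lift_snd_assoc, ← h₁, h₃]
  let c := pullback.lift c₁ x₂ hc
  have cf : c ≫ fA = c₁ := pullback.lift_fst _ _ hc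
  have cV : c ≫ V = v :=
    (Category.assoc _ _ _).symm.trans ((congrArg (· ≫ a) cf).trans (pullback.lift_fst _ _ h₁))
  have c₁' : c ≫ X₁ = x₁ :=
    (Category.assoc _ _ _).symm.trans ((congrArg (· ≫ s) cf).trans (pullback.lift_snd _ _ h₁))
  have c₂' : c ≫ X₂ = x₂ := pullback.lift_snd _ _ hc
  have := congr(c ≫ $e)
  refine Eq.trans ?_ (((D.comp_move hj c _ _ H₂).symm.trans this).trans
    ((D.comp_move hj c _ _ H₃).trans (D.move_congr hj cV c₂' _)))
  refine D.move_congr hj ?_ c₂'.symm h₂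
  exact (D.move_congr hj cV.symm c₁'.symm h₁).trans (D.comp_move hj c V X₁ H₁).symm

/-- the descent datum on `Z` -/
def datum : SchDD p where
  obj := Over.mk D.k
  φ T x₀ x₁ h :=
    { toFun := fun v => ⟨D.move hj v.1 x₁ (by
          rw [← Category.assoc]; exact (congrArg (· ≫ p) v.2).trans h), D.move_k hj _ _ _⟩
      invFun := fun v => ⟨D.move hj v.1 x₀ (by
          rw [← Category.assoc]; exact (congrArg (· ≫ p) v.2).trans h.symm), D.move_k hj _ _ _⟩
      left_inv := fun v => Subtype.ext (((D.move_move hj v.1 x₁ x₀ _ _ (by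
          rw [← Category.assoc]; exact congrArg (· ≫ p) v.2)).trans
        (D.move_congr hj rfl v.2.symm _)).trans (D.move_self hj v.1 _))
      right_inv := fun v => Subtype.ext (((D.move_move hj v.1 x₀ x₁ _ _ (by
          rw [← Category.assoc]; exact congrArg (· ≫ p) v.2)).trans
        (D.move_congr hj rfl v.2.symm _)).trans (D.move_self hj v.1 _)) }
  φ_natural T T' g x₀ x₁ h h' v v' hv := by
    exact (D.move_congr hj hv rfl _).trans (D.comp_move hj g v.1 x₁ _).symm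
  φ_self T x v := Subtype.ext ((D.move_congr hj rfl v.2.symm _).trans (D.move_self hj v.1 _))
  φ_comp T x₀ x₁ x₂ h₀₁ h₁₂ v := Subtype.ext (D.move_move hj v.1 x₁ x₂ _ _ _)

theorem isIndQuasiAffineHom_k : MoreMor.IsIndQuasiAffineHom D.k := fun V hV U hU => by
  haveI : IsAffine (D.k ⁻¹ᵁ V) := hV.preimage D.k
  haveI : CompactSpace U := isCompact_iff_compactSpace.mp hU
  haveI : IsOpenImmersion U.ι := U.instIsOpenImmersionι
  exact Scheme.IsQuasiAffine.of_isImmersion U.ι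

include hj in
/-- the extension descends -/
theorem descend [Surjective p] [QuasiCompact p] [Etale D.k] :
    ∃ (U : Scheme.{u}) (gU : U ⟶ Y) (ρ : pullback gU j ≅ D.El), IsFinite gU ∧ Etale gU ∧
      ρ.hom ≫ D.eE = pullback.snd gU j := by
  obtain ⟨U, ⟨θ⟩⟩ := SchDescent.effective_of_indQuasiAffine (SchDescent.isCover_singleton p)
    (D.datum hj) D.isIndQuasiAffineHom_k
  let gU := U.hom
  let hi : D.Z ⟶ pullback p gU := θ.inv.hom.left
  let hh : pullback p gU ⟶ D.Z := θ.hom.hom.left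
  have hihh : hi ≫ hh = 𝟙 _ := congrArg (fun m => m.hom.left) θ.inv_hom_id
  have hhhi : hh ≫ hi = 𝟙 _ := congrArg (fun m => m.hom.left) θ.hom_inv_id
  have hik : hi ≫ pullback.fst p gU = D.k := Over.w θ.inv.hom
  haveI : IsIso hi := ⟨hh, hihh, hhhi⟩
  let u : D.Z ⟶ U.left := hi ≫ pullback.snd p gU
  have hsq : IsPullback u D.k gU p :=
    IsPullback.of_iso (IsPullback.of_hasPullback p gU).flip (asIso hi).symm (Iso.refl _) (Iso.refl _)
      (Iso.refl _) (by simp [u]) (by simp [← hik]) (by simp) (by simp)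
  have hQ : (@Surjective ⊓ @Flat ⊓ @QuasiCompact : MorphismProperty Scheme.{u}) p := ⟨⟨‹_›, ‹_›⟩, ‹_›⟩
  have hfin : IsFinite gU := MorphismProperty.of_isPullback_of_descendsAlong (P := @IsFinite)
    (Q := @Surjective ⊓ @Flat ⊓ @QuasiCompact) hsq.flip hQ ‹_›
  have het : Etale gU := MorphismProperty.of_isPullback_of_descendsAlong (P := @Etale)
    (Q := @Surjective ⊓ @Flat ⊓ @QuasiCompact) hsq.flip hQ ‹_›
  have hπw : (D.i ≫ u) ≫ gU = D.r ≫ j := by
    rw [Category.assoc, hsq.w, D.sqZ.w]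
  let π : D.ZW ⟶ pullback gU j := pullback.lift _ _ hπw
  have hπ₁ : π ≫ pullback.fst gU j = D.i ≫ u := pullback.lift_fst _ _ hπw
  have hπ₂ : π ≫ pullback.snd gU j = D.r := pullback.lift_snd _ _ hπw
  have sqπ' : IsPullback π D.i (pullback.fst gU j) u := by
    refine IsPullback.of_right ?_ hπ₁ (IsPullback.of_hasPullback gU j).flip
    rw [hπ₂, hsq.w]
    exact D.sqZ.flip
  have sqπ : IsPullback π (D.i ≫ D.k) (pullback.fst gU j ≫ gU) p := sqπ'.paste_vert hsq
  have sqπcover : SchDescent.IsCover (fun _ : PUnit.{1} => π) :=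
    SchDescent.isCover_of_isPullback (SchDescent.isCover_singleton p) (g := pullback.fst gU j ≫ gU)
      (p₂ := fun _ => D.i ≫ D.k) fun _ => sqπ
  obtain ⟨ρ, hρ, -⟩ := SchDescent.existsUnique_glue sqπcover (fun _ => D.ε) (by
    intro _ _ T a a' haa
    have hu : (a ≫ D.i) ≫ u = (a' ≫ D.i) ≫ u := by
      rw [Category.assoc, Category.assoc, ← hπ₁, reassoc_of% haa]
    have hx : (a ≫ D.i ≫ D.k) ≫ p = (a' ≫ D.i ≫ D.k) ≫ p := by
      simp only [Category.assoc]
      rw [← hsq.w, ← Category.assoc D.i, ← hπ₁, Category.assoc, reassoc_of% haa]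
    let v : Lifts (D.datum hj).obj (a ≫ D.i ≫ D.k) := ⟨a ≫ D.i, Category.assoc _ _ _⟩
    let w : Lifts ((toDD p).obj U).obj (a ≫ D.i ≫ D.k) := ⟨(a ≫ D.i) ≫ hi, by
      exact (Category.assoc _ _ _).trans ((congrArg _ hik).trans (Category.assoc _ _ _))⟩
    have key := θ.inv.comm (a ≫ D.i ≫ D.k) (a' ≫ D.i ≫ D.k) hx v w rfl
    have hmv : a' ≫ D.i = ((D.datum hj).φ _ (a' ≫ D.i ≫ D.k) hx v).1 := by
      rw [← cancel_mono hi]
      refine Eq.trans ?_ key
      show (a' ≫ D.i) ≫ hi = (canMap p U _ _ hx w).1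
      rw [canMap_val]
      apply pullback.hom_ext
      · rw [pullback.lift_fst, Category.assoc, Category.assoc, hik]
      · rw [pullback.lift_snd]
        show ((a' ≫ D.i) ≫ hi) ≫ _ = ((a ≫ D.i) ≫ hi) ≫ _
        rw [Category.assoc _ hi, Category.assoc _ hi]
        exact hu.symm
    exact D.compat hj (𝟙 T) (a ≫ D.i) (a' ≫ D.i ≫ D.k) (by simpa using hx) a a'
      (Category.id_comp _).symm (hmv.trans (Category.id_comp _).symm))
  have hρ' : π ≫ ρ = D.ε := hρ PUnit.unit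
  have hρE : ρ ≫ D.eE = pullback.snd gU j := SchDescent.hom_ext sqπcover fun _ => by
    rw [reassoc_of% hρ', D.hε, hπ₂]
  haveI : IsIso ρ := by
    have sq : IsPullback π (𝟙 D.ZW) ρ D.ε := by
      refine IsPullback.of_bot ?_ (by rw [hρ', Category.id_comp]) D.sqE
      rw [Category.id_comp, reassoc_of% hρE, ← pullback.condition]
      exact sqπ
    have hεQ : (@Surjective ⊓ @Flat ⊓ @QuasiCompact : MorphismProperty Scheme.{u}) D.ε :=
      MorphismProperty.of_isPullback (P := @Surjective ⊓ @Flat ⊓ @QuasiCompact) D.sqE.flip hQ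
    exact MorphismProperty.of_isPullback_of_descendsAlong (P := MorphismProperty.isomorphisms Scheme.{u})
      (Q := @Surjective ⊓ @Flat ⊓ @QuasiCompact) sq.flip hεQ
      (show IsIso (𝟙 D.ZW) from inferInstance)
  exact ⟨U.left, gU, asIso ρ, hfin, het, hρE⟩

end Ext1

end Groth.Agent.PureDesc
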